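import Mathlib.GroupTheory.Sylow
import Mathlib.GroupTheory.Perm.Cycle.Type

/-!
# Products of two involutions in a group with abelian 2-subgroups

If all 2-subgroups of a finite group are abelian and some two involutions do not commute, then
there are distinct involutions `c`, `f` such that `g = c * f` has odd order and the number of
pairs `(x, y)` with `x` a 2-element, `y` of odd order and `x * y = g` is odd.

Choose the pair so that the 2-part of the centraliser of `{c, f}` is as large as possible.  The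
involution `x ↦ c * x⁻¹ * c⁻¹` of the set of those `x` has as fixed points the `c * d` with `d` an
involution commuting with `c` such that `d * f` has odd order.  These `d` are permuted by the
Sylow 2-subgroup `E` of the centraliser of `{c, f}`, and the fixed ones together with the
involutions of `E` parametrise the involutions outside `E` of an elementary abelian group.
-/

set_option autoImplicit false

namespace Cfsg.Agent.AbelianSylowTwo

open Subgroup

universe u

variable {G : Type u} [Group G]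

theorem conj_eq_inv_of_involutions {d e : G} (hd : d * d = 1) (he : e * e = 1) :
    d * (d * e) * d⁻¹ = (d * e)⁻¹ := by
  rw [mul_inv_rev, inv_eq_of_mul_eq_one_right he, inv_eq_of_mul_eq_one_right hd, ← mul_assoc d d,
    hd, one_mul]

theorem isPGroup_zpowers_of_sq {d : G} (hd : d * d = 1) : IsPGroup 2 (zpowers d) := by
  rintro ⟨x, hx⟩
  obtain ⟨i, rfl⟩ := mem_zpowers_iff.1 hx
  refine ⟨1, Subtype.ext ?_⟩
  show (d ^ i) ^ (2 ^ 1) = 1
  rw [← zpow_natCast, ← zpow_mul, mul_comm, zpow_mul, zpow_natCast, pow_one, sq, hd, one_zpow]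

/-- Two involutions whose product is a 2-element generate a 2-group, so they commute. -/
theorem commute_of_two_power_product (hab : ∀ H : Subgroup G, IsPGroup 2 H →
    ∀ x ∈ H, ∀ y ∈ H, x * y = y * x) {d e : G} (hd : d * d = 1) (he : e * e = 1)
    {j : ℕ} (hj : (d * e) ^ 2 ^ j = 1) : d * e = e * d := by
  have hK : IsPGroup 2 (zpowers (d * e)) := by
    rintro ⟨x, hx⟩
    obtain ⟨i, rfl⟩ := mem_zpowers_iff.1 hx
    refine ⟨j, Subtype.ext ?_⟩
    show ((d * e) ^ i) ^ (2 ^ j) = 1
    rw [← zpow_natCast, ← zpow_mul, mul_comm, zpow_mul, zpow_natCast, hj, one_zpow]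
  have hdd : d⁻¹ = d := inv_eq_of_mul_eq_one_right hd
  have hin : ∀ n ∈ zpowers (d * e), d * n * d⁻¹ ∈ zpowers (d * e) := by
    intro n hn
    obtain ⟨i, rfl⟩ := mem_zpowers_iff.1 hn
    rw [← conj_zpow, conj_eq_inv_of_involutions hd he, inv_zpow]
    exact inv_mem (zpow_mem (mem_zpowers _) i)
  have hle : zpowers d ≤ Subgroup.normalizer (zpowers (d * e) : Set G) := by
    refine zpowers_le.2 (Subgroup.mem_normalizer_iff.2 fun n => ⟨hin n, fun hn => ?_⟩)
    have h := hin _ hn
    rw [show d * (d * n * d⁻¹) * d⁻¹ = n by rw [hdd]; simp only [← mul_assoc, hd]; simp [mul_assoc, hd]] at h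
    exact h
  have hH := IsPGroup.to_sup_of_normal_right' (isPGroup_zpowers_of_sq hd) hK hle
  have h := hab _ hH d (mem_sup_left (mem_zpowers d)) (d * e) (mem_sup_right (mem_zpowers _))
  rw [← mul_assoc, hd, one_mul] at h
  calc d * e = d * (d * e * d) := by rw [← h]
    _ = e * d := by rw [← mul_assoc, ← mul_assoc, hd, one_mul]

theorem eq_of_commute_of_odd {d f : G} (hd : d * d = 1) (hf : f * f = 1)
    (hc : d * f = f * d) (ho : Odd (orderOf (d * f))) : d = f := by
  have h2 : (d * f) ^ 2 = 1 := by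
    rw [sq]
    calc d * f * (d * f) = d * (f * d) * f := by group
      _ = (d * d) * (f * f) := by rw [← hc]; group
      _ = 1 := by rw [hd, hf, one_mul]
  have h1 : orderOf (d * f) = 1 := by
    rcases (Nat.dvd_prime Nat.prime_two).1 (orderOf_dvd_of_pow_eq_one h2) with h | h
    · exact h
    · rw [h] at ho; exact absurd ho (by decide)
  rw [orderOf_eq_one_iff] at h1
  exact (mul_eq_one_iff_eq_inv.1 h1).trans (inv_eq_of_mul_eq_one_right hf)

theorem mul_self_of_orderOf {d : G} (hd : orderOf d = 2) : d * d = 1 := by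
  rw [← sq, ← hd, pow_orderOf_eq_one]

theorem orderOf_eq_two_of {d : G} (hd : d * d = 1) (hd1 : d ≠ 1) : orderOf d = 2 :=
  orderOf_eq_prime (by rw [sq, hd]) hd1

variable [Finite G]

/-- The 2-power part of the order, with its odd complement. -/
theorem exists_two_pow_mul (n : ℕ) (hn : n ≠ 0) : ∃ j u, Odd u ∧ n = 2 ^ j * u := by
  refine ⟨n.factorization 2, n / 2 ^ n.factorization 2, ?_,
    (Nat.ordProj_mul_ordCompl_eq_self n 2).symm⟩
  rw [Nat.odd_iff]
  exact Nat.two_dvd_ne_zero.1 (Nat.not_dvd_ordCompl Nat.prime_two hn)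

/-- Two non-commuting involutions give two with product of odd order, with at least the same
common centraliser. -/
theorem exists_odd_partner (hab : ∀ H : Subgroup G, IsPGroup 2 H →
    ∀ x ∈ H, ∀ y ∈ H, x * y = y * x) {d e : G} (hd : d * d = 1) (he : e * e = 1)
    (hne : d * e ≠ e * d) : ∃ f : G, orderOf f = 2 ∧ d ≠ f ∧ Odd (orderOf (d * f)) ∧
      ∀ z : G, z * d = d * z → z * e = e * z → z * f = f * z := by
  obtain ⟨j, u, hu, hn⟩ := exists_two_pow_mul (orderOf (d * e)) (orderOf_pos _).ne'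
  set t := (d * e) ^ 2 ^ j with ht
  have hinv : d * t * d⁻¹ = t⁻¹ := by
    rw [ht, ← conj_pow, conj_eq_inv_of_involutions hd he, inv_pow]
  have hdd : d⁻¹ = d := inv_eq_of_mul_eq_one_right hd
  have hff : d * t * (d * t) = 1 := by
    rw [← mul_assoc]
    nth_rw 2 [← hdd]
    rw [hinv, inv_mul_cancel]
  have ht1 : t ≠ 1 := fun h => hne (commute_of_two_power_product hab hd he h)
  have hto : orderOf t = u := by
    rw [ht, orderOf_pow' _ (pow_ne_zero _ two_ne_zero), hn, Nat.gcd_eq_right (Dvd.intro _ rfl),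
      Nat.mul_div_cancel_left _ (Nat.two_pow_pos j)]
  have hdt : d * (d * t) = t := by rw [← mul_assoc, hd, one_mul]
  refine ⟨d * t, orderOf_eq_two_of hff fun h1 => ?_, fun h => ht1 ?_, by rw [hdt, hto]; exact hu,
    fun z hzd hze => ?_⟩
  · have h2 : t = d := by rw [← hdt, h1, mul_one]
    have h3 : orderOf d = 2 ∨ orderOf d = 1 :=
      ((Nat.dvd_prime Nat.prime_two).1 (orderOf_dvd_of_pow_eq_one (by rw [sq, hd]))).symm
    rw [← h2, hto] at h3
    rcases h3 with h3 | h3
    · rw [h3] at hu; exact absurd hu (by decide)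
    · exact ht1 (orderOf_eq_one_iff.1 (hto.trans h3))
  · rwa [left_eq_mul] at h
  · have hzde : Commute z (d * e) := Commute.mul_right hzd hze
    exact (Commute.mul_right (show Commute z d from hzd) (hzde.pow_right _)).eq

theorem isPGroup_zpowers_sup {E : Subgroup G} (hE : IsPGroup 2 E) {z : G} (hz : z * z = 1)
    (hc : ∀ x ∈ E, z * x = x * z) : IsPGroup 2 (zpowers z ⊔ E : Subgroup G) := by
  refine IsPGroup.to_sup_of_normal_right' (isPGroup_zpowers_of_sq hz) hE
    (zpowers_le.2 (Subgroup.mem_normalizer_iff.2 fun n => ⟨fun hn => ?_, fun hn => ?_⟩))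
  · rw [hc n hn, mul_inv_cancel_right]; exact hn
  · have h := hc _ hn
    rw [inv_mul_cancel_right, ← mul_assoc, ← mul_assoc, hz, one_mul,
      inv_eq_of_mul_eq_one_right hz] at h
    have hzz : z⁻¹ = z := inv_eq_of_mul_eq_one_right hz
    rw [hzz, mul_assoc] at hn
    have h' : n * z = z * n := by simpa [mul_assoc, hzz, hz] using h
    rw [h', ← mul_assoc, hz, one_mul] at hn
    exact hn

/-- There is a pair of involutions with odd product whose set of "partners" is odd. -/
theorem exists_odd_pair (hab : ∀ H : Subgroup G, IsPGroup 2 H →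
      ∀ x ∈ H, ∀ y ∈ H, x * y = y * x)
    (hnc : ∃ d e : G, d * d = 1 ∧ e * e = 1 ∧ d * e ≠ e * d) :
    ∃ c f : G, orderOf c = 2 ∧ orderOf f = 2 ∧ c ≠ f ∧ Odd (orderOf (c * f)) ∧
      Odd (Nat.card {d : G // orderOf d = 2 ∧ d * c = c * d ∧ Odd (orderOf (d * f))}) := by
  classical
  haveI : Fact (Nat.Prime 2) := ⟨Nat.prime_two⟩
  haveI := Fintype.ofFinite G
  set pr : G × G → Prop := fun p =>
    orderOf p.1 = 2 ∧ orderOf p.2 = 2 ∧ p.1 ≠ p.2 ∧ Odd (orderOf (p.1 * p.2)) with hpr
  have hne : (Finset.univ.filter pr).Nonempty := by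
    obtain ⟨d, e, hd, he, hde⟩ := hnc
    obtain ⟨f, hf, hdf, ho, -⟩ := exists_odd_partner hab hd he hde
    exact ⟨(d, f), Finset.mem_filter.2 ⟨Finset.mem_univ _,
      orderOf_eq_two_of hd (fun h : d = 1 => hde (by rw [h, one_mul, mul_one])), hf, hdf, ho⟩⟩
  obtain ⟨⟨c, f⟩, hcf, hmax⟩ := Finset.exists_max_image _
    (fun p : G × G => (Nat.card (centralizer ({p.1, p.2} : Set G))).factorization 2) hne
  obtain ⟨hc2, hf2, hcne, hodd⟩ := (Finset.mem_filter.1 hcf).2
  dsimp only at hc2 hf2 hcne hodd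
  have hc := mul_self_of_orderOf hc2
  have hf := mul_self_of_orderOf hf2
  set C := centralizer ({c, f} : Set G) with hC
  let E0 : Sylow 2 C := default
  set E : Subgroup G := (E0 : Subgroup C).map C.subtype with hEdef
  have hE : IsPGroup 2 E := E0.isPGroup'.map _
  have hEcard : Nat.card E = 2 ^ (Nat.card C).factorization 2 := by
    rw [hEdef, Subgroup.card_map_of_injective C.subtype_injective]
    exact E0.card_eq_multiplicity
  have hEC : E ≤ C := Subgroup.map_subtype_le _
  have hmemC : ∀ z : G, z ∈ C ↔ z * c = c * z ∧ z * f = f * z := fun z => by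
    rw [hC, Subgroup.mem_centralizer_iff]
    simp only [Set.mem_insert_iff, Set.mem_singleton_iff, forall_eq_or_imp, forall_eq]
    exact ⟨fun h => ⟨h.1.symm, h.2.symm⟩, fun h => ⟨h.1.symm, h.2.symm⟩⟩
  -- maximality
  have hbig : ∀ K : Subgroup G, IsPGroup 2 K → ∀ d f' : G, pr (d, f') →
      (∀ z ∈ K, z * d = d * z ∧ z * f' = f' * z) → Nat.card K ≤ Nat.card E := by
    intro K hK d f' hp hz
    obtain ⟨a, ha⟩ := IsPGroup.iff_card.1 hK
    have hle : K ≤ centralizer ({d, f'} : Set G) := fun z hzK => by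
      rw [Subgroup.mem_centralizer_iff]
      simp only [Set.mem_insert_iff, Set.mem_singleton_iff, forall_eq_or_imp, forall_eq]
      exact ⟨(hz z hzK).1.symm, (hz z hzK).2.symm⟩
    have hdvd := Subgroup.card_dvd_of_le hle
    rw [ha, Nat.prime_two.pow_dvd_iff_le_factorization Nat.card_pos.ne'] at hdvd
    rw [ha, hEcard]
    exact Nat.pow_le_pow_right two_pos
      (hdvd.trans (hmax (d, f') (Finset.mem_filter.2 ⟨Finset.mem_univ _, hp⟩)))
  have hcE : c ∉ E := fun h =>
    hcne (eq_of_commute_of_odd hc hf ((hmemC c).1 (hEC h)).2 hodd)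
  -- involutions centralising a larger 2-group commute
  have hL : ∀ a : G, a * a = 1 → a ∉ E → (∀ x ∈ E, a * x = x * a) →
      ∀ d e : G, d * d = 1 → e * e = 1 → d * a = a * d → e * a = a * e →
      (∀ x ∈ E, d * x = x * d) → (∀ x ∈ E, e * x = x * e) → d * e = e * d := by
    intro a ha haE haC d e hd he hda hea hdE heE
    by_contra hde
    obtain ⟨f', hf', hdf', ho, hzf⟩ := exists_odd_partner hab hd he hde
    have hK := isPGroup_zpowers_sup hE ha haC
    have hcen : ∀ v : G, v * a = a * v → (∀ x ∈ E, v * x = x * v) →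
        ∀ z ∈ zpowers a ⊔ E, z * v = v * z := by
      intro v hva hvE z hz
      have hle : zpowers a ⊔ E ≤ centralizer ({v} : Set G) := sup_le
        (zpowers_le.2 (mem_centralizer_singleton_iff.2 hva.symm))
        fun x hx => mem_centralizer_singleton_iff.2 (hvE x hx).symm
      exact mem_centralizer_singleton_iff.1 (hle hz)
    have h1 := hbig _ hK d f' ⟨orderOf_eq_two_of hd (fun h : d = 1 => hde (by rw [h, one_mul, mul_one])),
      hf', hdf', ho⟩ fun z hz => ⟨hcen d hda hdE z hz,
        hzf z (hcen d hda hdE z hz) (hcen e hea heE z hz)⟩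
    have h2 : E = zpowers a ⊔ E := Subgroup.eq_of_le_of_card_ge le_sup_right h1
    exact haE (h2 ▸ mem_sup_left (mem_zpowers a))
  have hEab : ∀ x ∈ E, ∀ y ∈ E, x * y = y * x := hab E hE
  have hEc : ∀ x ∈ E, c * x = x * c := fun x hx => ((hmemC x).1 (hEC hx)).1.symm
  have hEf : ∀ x ∈ E, f * x = x * f := fun x hx => ((hmemC x).1 (hEC hx)).2.symm
  -- the elementary abelian group of involutions centralising `c` and `E`
  let A : Subgroup G :=
    { carrier := {a : G | a * a = 1 ∧ a * c = c * a ∧ ∀ x ∈ E, a * x = x * a}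
      one_mem' := ⟨one_mul _, by simp, fun x _ => by simp⟩
      mul_mem' := by
        rintro a b ⟨ha, hac, haE⟩ ⟨hb, hbc, hbE⟩
        refine ⟨?_, (Commute.mul_left (show Commute a c from hac) hbc).eq,
          fun x hx => (Commute.mul_left (show Commute a x from haE x hx) (hbE x hx)).eq⟩
        have hab' := hL c hc hcE hEc a b ha hb hac hbc haE hbE
        calc a * b * (a * b) = a * (b * a) * b := by group
          _ = (a * a) * (b * b) := by rw [← hab']; group
          _ = 1 := by rw [ha, hb, one_mul]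
      inv_mem' := by
        rintro a ⟨ha, hac, haE⟩
        rw [inv_eq_of_mul_eq_one_right ha]
        exact ⟨ha, hac, haE⟩ }
  have hA2 : IsPGroup 2 A := fun x => ⟨1, Subtype.ext (by
    show (x : G) ^ (2 ^ 1) = 1
    rw [pow_one, sq]; exact x.2.1)⟩
  set S0 : Set G := {d : G | (orderOf d = 2 ∧ d * c = c * d ∧ Odd (orderOf (d * f))) ∧
    ∀ x ∈ E, d * x = x * d} with hS0
  have hS0A : ∀ d ∈ S0, d ∈ A := fun d hd => ⟨mul_self_of_orderOf hd.1.1, hd.1.2.1, hd.2⟩
  let Φ : S0 × (A ⊓ E : Subgroup G) → ((A : Set G) \ (E : Set G) : Set G) := fun p =>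
    ⟨(p.1 : G) * (p.2 : G), A.mul_mem (hS0A _ p.1.2) p.2.2.1, fun h => by
      have hdE : (p.1 : G) ∈ E := (E.mul_mem_cancel_right p.2.2.2).1 h
      have hdf := eq_of_commute_of_odd (mul_self_of_orderOf p.1.2.1.1) hf
        (hEf _ hdE).symm p.1.2.1.2.2
      have hfc := p.1.2.1.2.1
      rw [hdf] at hfc
      exact hcne (eq_of_commute_of_odd hc hf hfc.symm hodd)⟩
  have hΦ : Function.Bijective Φ := by
    constructor
    · rintro ⟨⟨d, hd⟩, ⟨x, hxA, hxE⟩⟩ ⟨⟨d', hd'⟩, ⟨x', hx'A, hx'E⟩⟩ h
      have h' : d * x = d' * x' := congrArg Subtype.val h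
      set y := x * x'⁻¹ with hy
      have hd'y : d' = d * y := by rw [hy, ← mul_assoc, h', mul_inv_cancel_right]
      have hyE : y ∈ E := E.mul_mem hxE (E.inv_mem hx'E)
      have hyA : y ∈ A := A.mul_mem hxA (A.inv_mem hx'A)
      rcases eq_or_ne y 1 with hy1 | hy1
      · rw [hy1, mul_one] at hd'y
        subst hd'y
        obtain rfl : x = x' := mul_left_cancel h'
        rfl
      · exfalso
        have hy2 := orderOf_eq_two_of hyA.1 hy1
        have hcom : Commute y (d * f) :=
          Commute.mul_right (show Commute y d from (hd.2 y hyE).symm) (hEf y hyE).symm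
        have e : d' * f = y * (d * f) := by
          rw [hd'y, hd.2 y hyE, mul_assoc]
        have hord := hcom.orderOf_mul_eq_mul_orderOf_of_coprime
          (by rw [hy2]; exact Nat.coprime_two_left.2 hd.1.2.2)
        rw [← e, hy2] at hord
        have := hd'.1.2.2
        rw [hord] at this
        exact absurd this (by simp)
    · rintro ⟨a, ⟨ha, hac, haE⟩, hanE⟩
      rw [SetLike.mem_coe] at hanE
      have ha1 : a ≠ 1 := fun h => hanE (h ▸ E.one_mem)
      rcases Nat.even_or_odd (orderOf (a * f)) with hev | ho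
      swap
      · exact ⟨(⟨a, ⟨orderOf_eq_two_of ha ha1, hac, ho⟩, haE⟩, ⟨1, A.one_mem, E.one_mem⟩),
          Subtype.ext (mul_one a)⟩
      obtain ⟨j, v, hv, hn⟩ := exists_two_pow_mul (orderOf (a * f)) (orderOf_pos _).ne'
      set m := a * f with hm
      set w := m ^ v with hw
      have hj : j ≠ 0 := fun h => by
        rw [h, pow_zero, one_mul] at hn
        rw [hn] at hev
        exact Nat.not_odd_iff_even.2 hev hv
      have hwo : orderOf w = 2 ^ j := by
        rw [hw, orderOf_pow' _ hv.pos.ne', hn, Nat.gcd_eq_right (Dvd.intro_left _ rfl),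
          Nat.mul_div_cancel _ hv.pos]
      have hwinv : a * w * a⁻¹ = w⁻¹ := by
        rw [hw, ← conj_pow, hm, conj_eq_inv_of_involutions ha hf, inv_pow]
      have haa : a⁻¹ = a := inv_eq_of_mul_eq_one_right ha
      have haw2 : a * w * (a * w) = 1 := by
        rw [← mul_assoc]
        nth_rw 2 [← haa]
        rw [hwinv, inv_mul_cancel]
      have hcomm0 := commute_of_two_power_product hab ha haw2 (j := j) (by
        rw [← mul_assoc, ha, one_mul, ← hwo, pow_orderOf_eq_one])
      have hwa : w * a = a * w := by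
        rw [← mul_assoc, ha, one_mul] at hcomm0
        calc w * a = (a * w * a) * a := by rw [← hcomm0]
          _ = a * w * (a * a) := by group
          _ = a * w := by rw [ha, mul_one]
      have hw2 : w * w = 1 := by
        rw [← hwa, mul_inv_cancel_right] at hwinv
        nth_rw 1 [hwinv]
        exact inv_mul_cancel w
      have hw1 : w ≠ 1 := fun h => by
        rw [h, orderOf_one] at hwo
        exact hj (Nat.pow_right_injective le_rfl (hwo.symm.trans (pow_zero 2).symm))
      have hj1 : j = 1 := by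
        rw [orderOf_eq_two_of hw2 hw1] at hwo
        exact (Nat.pow_right_injective le_rfl ((pow_one 2).trans hwo)).symm
      have hwm : Commute w m := (Commute.refl m).pow_left v
      have hwf : w * f = f * w := by
        have : Commute w (a * m) := Commute.mul_right hwa hwm
        rw [hm, ← mul_assoc, ha, one_mul] at this
        exact this.eq
      have hwE : ∀ x ∈ E, w * x = x * w := fun x hx => by
        have : Commute m x :=
          Commute.mul_left (show Commute a x from haE x hx) (show Commute f x from hEf x hx)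
        exact (this.pow_left v).eq
      have hwc : w * c = c * w :=
        (hL a ha hanE haE c w hc hw2 hac.symm hwa hEc hwE).symm
      have hwmemE : w ∈ E := by
        have hK := isPGroup_zpowers_sup hE hw2 hwE
        have hle : zpowers w ⊔ E ≤ C := sup_le (zpowers_le.2 ((hmemC w).2 ⟨hwc, hwf⟩)) hEC
        have h1 := hbig _ hK c f (Finset.mem_filter.1 hcf).2 fun z hz => (hmemC z).1 (hle hz)
        have h2 : E = zpowers w ⊔ E := Subgroup.eq_of_le_of_card_ge le_sup_right h1
        exact h2 ▸ mem_sup_left (mem_zpowers w)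
      have hwA : w ∈ A := ⟨hw2, hwc, hwE⟩
      have haA : a ∈ A := ⟨ha, hac, haE⟩
      have hawA : a * w ∈ A := A.mul_mem haA hwA
      have haw1 : a * w ≠ 1 := fun h => hanE (by
        rw [mul_eq_one_iff_eq_inv.1 h]; exact E.inv_mem hwmemE)
      have hawf : a * w * f = m ^ (v + 1) := by
        rw [pow_succ, ← hw, hm, ← mul_assoc, hwa]
      have hoddaw : Odd (orderOf (a * w * f)) := by
        rw [hawf]
        refine Odd.of_dvd_nat hv (orderOf_dvd_of_pow_eq_one ?_)
        rw [← pow_mul]
        obtain ⟨k, hk⟩ := hv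
        refine orderOf_dvd_iff_pow_eq_one.1 ?_
        rw [hn, hj1, pow_one, hk]
        exact ⟨k + 1, by ring⟩
      refine ⟨(⟨a * w, ⟨orderOf_eq_two_of hawA.1 haw1, hawA.2.1, hoddaw⟩, hawA.2.2⟩,
        ⟨w, hwA, hwmemE⟩), Subtype.ext ?_⟩
      show a * w * w = a
      rw [mul_assoc, hw2, mul_one]
  have hcount := Nat.card_congr (Equiv.ofBijective Φ hΦ)
  rw [Nat.card_prod, Nat.card_coe_set_eq ((A : Set G) \ (E : Set G))] at hcount
  have hsplit := Set.ncard_inter_add_ncard_diff_eq_ncard (A : Set G) (E : Set G) (Set.toFinite _)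
  rw [← Subgroup.coe_inf, ← Nat.card_coe_set_eq, ← Nat.card_coe_set_eq (A : Set G)] at hsplit
  change Nat.card (A ⊓ E : Subgroup G) + _ = Nat.card A at hsplit
  have hlt : Nat.card (A ⊓ E : Subgroup G) < Nat.card A := by
    refine lt_of_not_ge fun h => hcE ?_
    have := Subgroup.eq_of_le_of_card_ge inf_le_left h
    have hcA : c ∈ A := ⟨hc, rfl, hEc⟩
    rw [← this] at hcA
    exact hcA.2
  obtain ⟨b, hb⟩ := IsPGroup.iff_card.1 (hE.to_le (inf_le_right : A ⊓ E ≤ E))
  obtain ⟨a, ha⟩ := IsPGroup.iff_card.1 hA2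
  rw [hb, ha] at hlt
  have hba : b < a := (Nat.pow_lt_pow_iff_right (by norm_num)).1 hlt
  have hS0odd : Odd (Nat.card S0) := by
    rw [hb, ← hcount, ha, show a = (a - b) + b by omega, pow_add, hb] at hsplit
    have h2 : Nat.card S0 + 1 = 2 ^ (a - b) :=
      Nat.eq_of_mul_eq_mul_right (Nat.two_pow_pos b) (by rw [add_mul, one_mul]; omega)
    rw [Nat.odd_iff]
    have : 2 ∣ 2 ^ (a - b) := dvd_pow_self 2 (by omega)
    omega
  refine ⟨c, f, hc2, hf2, hcne, hodd, ?_⟩
  -- parity
  let T : Set G := {d : G | orderOf d = 2 ∧ d * c = c * d ∧ Odd (orderOf (d * f))}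
  letI : MulAction E T :=
    { smul := fun x d => ⟨(x : G) * d * (x : G)⁻¹, by
        refine ⟨?_, ?_, ?_⟩
        · rw [← d.2.1]; exact MulEquiv.orderOf_eq (MulAut.conj (x : G)) (d : G)
        · have h1 : MulAut.conj (x : G) c = c := by
            rw [MulAut.conj_apply, ← hEc _ x.2, mul_inv_cancel_right]
          have h2 := congrArg (MulAut.conj (x : G)) d.2.2.1
          rwa [map_mul, map_mul, h1, MulAut.conj_apply] at h2
        · have h1 : MulAut.conj (x : G) f = f := by
            rw [MulAut.conj_apply, ← hEf _ x.2, mul_inv_cancel_right]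
          have h3 := d.2.2.2
          rw [← MulEquiv.orderOf_eq (MulAut.conj (x : G)), map_mul, h1, MulAut.conj_apply] at h3
          exact h3⟩
      one_smul := fun d => Subtype.ext (by show ((1 : E) : G) * d * ((1 : E) : G)⁻¹ = d; simp)
      mul_smul := fun x y d => Subtype.ext (by
        show ((x * y : E) : G) * d * ((x * y : E) : G)⁻¹ = x * (y * d * (y : G)⁻¹) * (x : G)⁻¹
        simp [mul_assoc]) }
  have hfix : Nat.card (MulAction.fixedPoints E T) = Nat.card S0 := Nat.card_congr
    { toFun := fun d => ⟨(d.1 : G), d.1.2, fun x hx => by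
        have := congrArg Subtype.val (d.2 ⟨x, hx⟩)
        change x * (d.1 : G) * x⁻¹ = d.1 at this
        rw [mul_inv_eq_iff_eq_mul] at this
        exact this.symm⟩
      invFun := fun d => ⟨⟨d.1, d.2.1⟩, fun x => Subtype.ext (by
        show (x : G) * (d : G) * (x : G)⁻¹ = d
        rw [← d.2.2 _ x.2, mul_inv_cancel_right])⟩
      left_inv := fun d => rfl
      right_inv := fun d => rfl }
  have hmod := hE.card_modEq_card_fixedPoints T
  rw [hfix] at hmod
  exact Nat.odd_iff.2 (Eq.trans hmod (Nat.odd_iff.1 hS0odd))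

/-- There is a product of two involutions of odd order with an odd number of decompositions
into a 2-element and an element of odd order. -/
theorem exists_real_odd_decomposition (hab : ∀ H : Subgroup G, IsPGroup 2 H →
      ∀ x ∈ H, ∀ y ∈ H, x * y = y * x)
    (hnc : ∃ d e : G, d * d = 1 ∧ e * e = 1 ∧ d * e ≠ e * d) :
    ∃ g : G, g ≠ 1 ∧ Odd (orderOf g) ∧ IsConj g g⁻¹ ∧
      Odd (Nat.card {xy : G × G // (∃ k : ℕ, orderOf xy.1 = 2 ^ k) ∧ ¬ 2 ∣ orderOf xy.2 ∧
        xy.1 * xy.2 = g}) := by
  classical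
  haveI : Fact (Nat.Prime 2) := ⟨Nat.prime_two⟩
  haveI := Fintype.ofFinite G
  obtain ⟨c, f, hc2, hf2, hne, hodd, hS⟩ := exists_odd_pair hab hnc
  have hc := mul_self_of_orderOf hc2
  have hf := mul_self_of_orderOf hf2
  have hcinv : c⁻¹ = c := inv_eq_of_mul_eq_one_right hc
  have hgc : c * (c * f) * c⁻¹ = (c * f)⁻¹ := conj_eq_inv_of_involutions hc hf
  refine ⟨c * f, fun h => hne ((mul_eq_one_iff_eq_inv.1 h).trans (inv_eq_of_mul_eq_one_right hf)),
    hodd, isConj_iff.2 ⟨c, hgc⟩, ?_⟩
  let X := {x : G // (∃ k : ℕ, orderOf x = 2 ^ k) ∧ ¬ 2 ∣ orderOf (x⁻¹ * (c * f))}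
  have eX : Nat.card {xy : G × G // (∃ k : ℕ, orderOf xy.1 = 2 ^ k) ∧ ¬ 2 ∣ orderOf xy.2 ∧
        xy.1 * xy.2 = c * f} = Nat.card X := Nat.card_congr
    { toFun := fun p => ⟨p.1.1, p.2.1, by
        rw [inv_mul_eq_iff_eq_mul.2 p.2.2.2.symm]; exact p.2.2.1⟩
      invFun := fun x => ⟨(x.1, x.1⁻¹ * (c * f)), x.2.1, x.2.2, mul_inv_cancel_left _ _⟩
      left_inv := fun p => Subtype.ext (Prod.ext rfl (inv_mul_eq_iff_eq_mul.2 p.2.2.2.symm))
      right_inv := fun x => rfl }
  let ι : X → X := fun x => ⟨MulAut.conj c x.1⁻¹, by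
    obtain ⟨k, hk⟩ := x.2.1
    exact ⟨k, by rw [MulEquiv.orderOf_eq, orderOf_inv, hk]⟩, by
    have h := x.2.2
    rw [← orderOf_inv, ← MulEquiv.orderOf_eq (MulAut.conj (c * x.1))] at h
    have e : MulAut.conj (c * x.1) (x.1⁻¹ * (c * f))⁻¹ =
        (MulAut.conj c x.1⁻¹)⁻¹ * (c * f) := by
      have h1 : ∀ y : G, c * (c * y) = y := fun y => by rw [← mul_assoc, hc, one_mul]
      simp [MulAut.conj_apply, mul_assoc, hcinv, inv_eq_of_mul_eq_one_right hf, h1, hc]
    rwa [e] at h⟩
  have hinv : Function.Involutive ι := fun x => Subtype.ext (by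
    show MulAut.conj c (MulAut.conj c x.1⁻¹)⁻¹ = x.1
    simp only [MulAut.conj_apply, hcinv, mul_inv_rev, inv_inv, ← mul_assoc, hc, one_mul]
    rw [mul_assoc, hc, mul_one])
  let σ : Equiv.Perm X := hinv.toPerm ι
  have hmod := Equiv.Perm.card_compl_support_modEq (p := 2) (n := 1) (σ := σ)
    (Equiv.ext fun x => by simp [σ, sq, hinv x])
  have hfix : σ.supportᶜ.card =
      Nat.card {d : G // orderOf d = 2 ∧ d * c = c * d ∧ Odd (orderOf (d * f))} := by
    rw [← Nat.card_eq_finsetCard]
    have key : ∀ x : X, ι x = x → orderOf (c * x.1) = 2 ∧ c * x.1 * c = c * (c * x.1) ∧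
        Odd (orderOf (c * x.1 * f)) := by
      intro x hx
      have h1 : c * x.1⁻¹ * c = x.1 := by
        have := congrArg Subtype.val hx
        change MulAut.conj c x.1⁻¹ = x.1 at this
        rwa [MulAut.conj_apply, hcinv] at this
      have hd : c * x.1 * (c * x.1) = 1 := by
        calc c * x.1 * (c * x.1) = c * x.1 * (c * (c * x.1⁻¹ * c)) := by rw [h1]
          _ = c * x.1 * ((c * c) * (x.1⁻¹ * c)) := by simp only [mul_assoc]
          _ = 1 := by rw [hc, one_mul, mul_assoc, mul_inv_cancel_left, hc]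
      obtain ⟨k, hk⟩ := x.2.1
      have hcomm := commute_of_two_power_product hab hc hd (j := k) (by
        rw [← mul_assoc, hc, one_mul, ← hk, pow_orderOf_eq_one])
      refine ⟨orderOf_eq_two_of hd fun h => ?_, hcomm.symm, ?_⟩
      · have hxc : x.1 = c := by rw [← one_mul x.1, ← hc, mul_assoc, h, mul_one]
        have h2 := x.2.2
        rw [hxc, hcinv, ← mul_assoc, hc, one_mul, hf2] at h2
        exact h2 dvd_rfl
      · have h2 := x.2.2
        have e : x.1⁻¹ * (c * f) = c * x.1 * f := by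
          rw [← mul_assoc]
          congr 1
          calc x.1⁻¹ * c = (c * x.1)⁻¹ := by rw [mul_inv_rev, hcinv]
            _ = c * x.1 := inv_eq_of_mul_eq_one_right hd
        rw [e] at h2
        exact Nat.odd_iff.2 (Nat.two_dvd_ne_zero.1 h2)
    refine Nat.card_congr
      { toFun := fun x => ⟨c * x.1.1, key x.1 (by
          simpa [σ] using Finset.mem_compl.1 x.2)⟩
        invFun := fun d => ⟨⟨c * d.1, ?_, ?_⟩, ?_⟩
        left_inv := fun x => Subtype.ext (Subtype.ext (by simp [← mul_assoc, hc]))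
        right_inv := fun d => Subtype.ext (by simp [← mul_assoc, hc]) }
    · have hd := mul_self_of_orderOf d.2.1
      have h2 : (c * d.1) ^ 2 = 1 := by
        rw [Commute.mul_pow (show Commute c d.1 from d.2.2.1.symm), sq, sq, hc, hd, one_mul]
      obtain ⟨k, -, hk⟩ := (Nat.dvd_prime_pow Nat.prime_two (m := 1)).1
        (by simpa using orderOf_dvd_of_pow_eq_one h2)
      exact ⟨k, hk⟩
    · have h3 := d.2.2.2
      have e : (c * d.1)⁻¹ * (c * f) = d.1 * f := by
        rw [mul_inv_rev, hcinv, inv_eq_of_mul_eq_one_right (mul_self_of_orderOf d.2.1), mul_assoc,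
          ← mul_assoc c c, hc, one_mul]
      rw [e]
      exact Nat.two_dvd_ne_zero.2 (Nat.odd_iff.1 h3)
    · simp only [Finset.mem_compl, Equiv.Perm.notMem_support, σ, Function.Involutive.coe_toPerm]
      refine Subtype.ext ?_
      show MulAut.conj c (c * d.1)⁻¹ = c * d.1
      rw [MulAut.conj_apply, mul_inv_rev, inv_eq_of_mul_eq_one_right (mul_self_of_orderOf d.2.1),
        hcinv, mul_assoc, mul_assoc, hc, mul_one]
  rw [eX, Nat.card_eq_fintype_card, Nat.odd_iff]
  rw [hfix] at hmod
  exact Eq.trans hmod.symm (Nat.odd_iff.1 hS)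

end Cfsg.Agent.AbelianSylowTwo
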